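import Cfsg.Agent.Lib.H16.U35.Mat

/-! The data of a subgroup of order 2520. -/

set_option autoImplicit false
set_option maxRecDepth 100000

namespace Cfsg.Agent.H16.U35

open E25

/-- Matrices from codes. -/
def c9 (a b c d e f g h i : ℕ) : M3 := ⟨ofN a, ofN b, ofN c, ofN d, ofN e, ofN f, ofN g, ofN h, ofN i⟩

/-- Explicit vectors. -/
structure P3 where
  x : E25
  y : E25
  z : E25
  deriving DecidableEq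

/-- Vectors from codes. -/
def c3 (x y z : ℕ) : P3 := ⟨ofN x, ofN y, ofN z⟩

def LS : List P3 := [c3 0 1 12, c3 1 6 8, c3 1 24 21, c3 1 7 11, c3 1 1 18, c3 1 14 3, c3 1 21 24, c3 1 4 3, c3 1 11 7, c3 1 15 17, c3 1 18 4, c3 1 10 5, c3 0 1 22, c3 1 19 10, c3 1 9 4, c3 1 12 17, c3 1 24 16, c3 1 19 7, c3 1 17 7, c3 1 16 24, c3 1 13 6, c3 1 2 6, c3 1 12 0, c3 1 4 17, c3 1 9 7, c3 1 1 9, c3 1 13 8, c3 0 1 20, c3 1 11 20, c3 1 21 2, c3 1 0 13, c3 1 20 8, c3 1 22 3, c3 1 21 15, c3 1 0 14, c3 1 3 2, c3 1 12 13, c3 1 22 2, c3 1 19 11, c3 1 1 10, c3 1 10 4, c3 1 18 9, c3 1 24 10, c3 1 2 5, c3 1 10 24, c3 1 7 5, c3 1 16 5, c3 1 24 19, c3 1 19 16, c3 1 10 3, c3 1 7 14, c3 1 18 2, c3 1 19 5, c3 1 17 3, c3 1 6 17, c3 1 14 21, c3 1 23 9, c3 1 5 5, c3 1 11 9, c3 1 15 16, c3 1 23 14, c3 1 3 7, c3 1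 8 5, c3 1 4 7, c3 1 20 22, c3 1 3 11, c3 1 10 20, c3 1 6 18, c3 1 21 17, c3 1 2 17, c3 1 18 23, c3 1 17 17, c3 1 21 23, c3 1 24 24, c3 1 18 13, c3 1 9 19, c3 1 15 2, c3 1 2 19, c3 1 10 17, c3 1 23 1, c3 1 9 15, c3 1 8 18, c3 1 3 21, c3 1 22 0, c3 1 14 6, c3 1 2 1, c3 1 3 5, c3 1 20 0, c3 1 10 12, c3 1 18 6, c3 1 16 22, c3 1 5 21, c3 1 10 9, c3 1 0 15, c3 1 19 24, c3 1 18 7, c3 1 18 12, c3 1 19 6, c3 1 8 21, c3 1 6 7, c3 1 19 22, c3 1 13 1, c3 1 5 23, c3 1 9 12, c3 1 6 20]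

def L8 : List M3 := [c9 0 15 3 10 1 5 3 20 3, c9 0 24 10 9 3 19 15 14 1, c9 1 0 0 0 1 0 0 0 1, c9 1 22 14 7 0 21 19 6 3, c9 3 14 6 19 1 15 21 10 0, c9 3 18 18 13 3 4 13 4 3, c9 6 2 11 5 13 22 3 4 12, c9 21 20 3 2 18 4 16 7 17]

def L27 : List M3 := [c9 1 0 0 0 1 0 0 0 1, c9 3 19 24 7 4 11 0 23 3, c9 3 22 0 14 4 8 9 16 3, c9 4 2 4 17 13 9 6 12 18, c9 4 12 21 2 18 17 4 24 13, c9 5 9 24 23 0 9 13 7 20, c9 5 19 0 21 6 14 3 21 19, c9 6 10 0 11 18 15 2 19 6, c9 6 20 9 8 18 5 0 22 6, c9 11 16 0 6 3 5 21 6 16, c9 11 24 2 10 0 24 18 15 19, c9 12 0 0 0 12 0 0 0 12, c9 13 1 6 9 4 12 13 2 18, c9 13 9 13 12 18 24 3 1 4, c9 14 2 9 22 0 2 4 8 16, c9 14 20 0 3 21 11 6 3 20, c9 16 15 13 9 0 10 2 9 14, c9 16 21 6 11 3 21 0 20 11, c9 17 0 0 0 17 0 0 0 17, c9 18 17 3 24 13 1 18 9 4, c9 18 24 18 1 4 2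 21 17 13, c9 19 3 21 5 6 3 0 16 5, c9 19 7 4 2 0 23 24 2 11, c9 20 6 3 14 21 6 0 19 14, c9 20 8 18 24 0 22 9 24 5, c9 21 16 2 15 13 14 0 10 21, c9 21 23 0 5 13 7 24 20 21]

def L5 : List M3 := [c9 1 0 0 0 1 0 0 0 1, c9 5 4 8 6 24 19 21 4 4, c9 12 23 20 17 18 21 6 11 3, c9 17 12 21 8 13 16 5 6 3, c9 20 21 6 4 9 4 23 14 4]

def L7 : List M3 := [c9 1 0 0 0 1 0 0 0 1, c9 8 18 5 11 1 7 12 21 18, c9 9 6 20 18 5 15 13 3 13, c9 10 6 0 1 16 8 5 6 21, c9 15 1 20 21 11 21 0 23 6, c9 23 16 17 13 1 6 20 22 13, c9 24 13 18 21 20 3 5 10 18]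

def m0 : M3 := c9 1 0 0 0 6 10 0 10 21

def p0 : P3 := c3 0 1 12

end Cfsg.Agent.H16.U35
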